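import Cfsg.Agent.Lib.Fischer.UB.B9.R0
import Cfsg.Agent.Lib.Fischer.UB.B9.R1
import Cfsg.Agent.Lib.Fischer.UB.B9.R2

set_option autoImplicit false
set_option maxRecDepth 100000

namespace Cfsg.Agent.Fi.UB9

open Cfsg.Agent.PC

theorem rows : ∀ i < 28160, row i = 0 := by
  have h := zero_lt_zero row
  have h := zero_lt_add (a := (nat_lit 0)) (n := (nat_lit 3000)) (b := (nat_lit 3000)) h r0 rfl
  have h := zero_lt_add (a := (nat_lit 3000)) (n := (nat_lit 3000)) (b := (nat_lit 6000)) h r3000 rfl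
  have h := zero_lt_add (a := (nat_lit 6000)) (n := (nat_lit 3000)) (b := (nat_lit 9000)) h r6000 rfl
  have h := zero_lt_add (a := (nat_lit 9000)) (n := (nat_lit 3000)) (b := (nat_lit 12000)) h r9000 rfl
  have h := zero_lt_add (a := (nat_lit 12000)) (n := (nat_lit 3000)) (b := (nat_lit 15000)) h r12000 rfl
  have h := zero_lt_add (a := (nat_lit 15000)) (n := (nat_lit 3000)) (b := (nat_lit 18000)) h r15000 rfl
  have h := zero_lt_add (a := (nat_lit 18000)) (n := (nat_lit 3000)) (b := (nat_lit 21000)) h r18000 rfl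
  have h := zero_lt_add (a := (nat_lit 21000)) (n := (nat_lit 3000)) (b := (nat_lit 24000)) h r21000 rfl
  have h := zero_lt_add (a := (nat_lit 24000)) (n := (nat_lit 3000)) (b := (nat_lit 27000)) h r24000 rfl
  have h := zero_lt_add (a := (nat_lit 27000)) (n := (nat_lit 1160)) (b := (nat_lit 28160)) h r27000 rfl
  exact h
theorem auxs : ∀ i < 20805, aux i = 0 := by
  have h := zero_lt_zero aux
  have h := zero_lt_add (a := (nat_lit 0)) (n := (nat_lit 4000)) (b := (nat_lit 4000)) h a0 rfl
  have h := zero_lt_add (a := (nat_lit 4000)) (n := (nat_lit 4000)) (b := (nat_lit 8000)) h a4000 rfl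
  have h := zero_lt_add (a := (nat_lit 8000)) (n := (nat_lit 4000)) (b := (nat_lit 12000)) h a8000 rfl
  have h := zero_lt_add (a := (nat_lit 12000)) (n := (nat_lit 4000)) (b := (nat_lit 16000)) h a12000 rfl
  have h := zero_lt_add (a := (nat_lit 16000)) (n := (nat_lit 4000)) (b := (nat_lit 20000)) h a16000 rfl
  have h := zero_lt_add (a := (nat_lit 20000)) (n := (nat_lit 805)) (b := (nat_lit 20805)) h a20000 rfl
  exact h
theorem closes.{u} : ClosesT.{u} (fun j => j) rels 9 8 28160 T :=
  hc_closes (N1 := (nat_lit 28159)) rfl T_eq (by decide +kernel) rows auxs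
theorem T_inv : ∀ c < 28160, ∀ j < 9, T j c < 28160 ∧ T j (T j c) = c := 
  hc_inv (inv := (fun j => j)) (N1 := (nat_lit 28159)) rfl T_eq rows

end Cfsg.Agent.Fi.UB9
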