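import Cfsg.Agent.Lib.Fischer.UB.B9.A

set_option autoImplicit false
set_option maxRecDepth 100000

namespace Cfsg.Agent.Fi.UB9

open Cfsg.Agent.PC

theorem r0 : Nat.beq (rng row (nat_lit 0) (nat_lit 3000)) (nat_lit 0) = true := by decide +kernel
theorem r3000 : Nat.beq (rng row (nat_lit 3000) (nat_lit 3000)) (nat_lit 0) = true := by decide +kernel
theorem r6000 : Nat.beq (rng row (nat_lit 6000) (nat_lit 3000)) (nat_lit 0) = true := by decide +kernel
theorem r9000 : Nat.beq (rng row (nat_lit 9000) (nat_lit 3000)) (nat_lit 0) = true := by decide +kernel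
theorem r12000 : Nat.beq (rng row (nat_lit 12000) (nat_lit 3000)) (nat_lit 0) = true := by decide +kernel
theorem r15000 : Nat.beq (rng row (nat_lit 15000) (nat_lit 3000)) (nat_lit 0) = true := by decide +kernel

end Cfsg.Agent.Fi.UB9
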